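import Cfsg.Agent.H334.Ore.Pw
import Cfsg.Agent.H494.TC.Base

/-!
# One class `C` of elements of prime order with `C C ⊇ G ∖ {1}` in the Mathieu groups (S4173, S2464, S2452): the engine (helper142)
-/

set_option autoImplicit false
set_option linter.unusedSectionVars false

namespace Cfsg.Agent.H142.TC

open Cfsg Cfsg.Agent.H334.Ore.Mat Cfsg.Agent.H334.Ore.PwB Cfsg.Agent.H729.Trans Cfsg.Agent.H494.TC
open Cfsg.Agent.SporadicStructure.M24El Cfsg.Agent.SporadicA.GolayPerm Cfsg.Agent.SporadicA.GolayBase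

/-- The check of a factorisation `c = a b`, `a = u x u⁻¹`, `b = v x v⁻¹`. -/
def chkT (F : List ℕ) (x : ℕ) (r : Rec) (w : ℕ × ℕ × ℕ × ℕ) : Bool :=
  Nat.beq (pcomp w.1 w.2.2.1) r.c && (inG F w.1 && (inG F w.2.1 && (inG F w.2.2.1 && (inG F w.2.2.2 &&
    (Nat.beq (pcomp w.2.1 x) (pcomp w.1 w.2.1) && Nat.beq (pcomp w.2.2.2 x) (pcomp w.2.2.1 w.2.2.2))))))

/-- The check of a list of factorisations. -/
def chkAllT (F : List ℕ) (x : ℕ) : List Rec → List (ℕ × ℕ × ℕ × ℕ) → Bool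
  | [], [] => true
  | r :: D, w :: W => chkT F x r w && chkAllT F x D W
  | _, _ => false

theorem exists_chkT {F : List ℕ} {x : ℕ} : ∀ {D : List Rec} {W : List (ℕ × ℕ × ℕ × ℕ)}, chkAllT F x D W = true →
    ∀ r ∈ D, ∃ w, chkT F x r w = true := by
  intro D
  induction D with
  | nil => intro W _ r hr; exact absurd hr List.not_mem_nil
  | cons r D ih =>
    intro W h s hs
    cases W with
    | nil => exact Bool.noConfusion h
    | cons w W =>
      have h1 : chkT F x r w = true ∧ chkAllT F x D W = true := by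
        have h2 : (chkT F x r w && chkAllT F x D W) = true := h
        rwa [Bool.and_eq_true] at h2
      rcases List.mem_cons.1 hs with rfl | hs
      · exact ⟨w, h1.1⟩
      · exact ih h1.2 s hs

/-- The check of the element `x` of order `p`. -/
def chkX (F : List ℕ) (x p : ℕ) : Bool :=
  inG F x && (Nat.beq (ppw x p) idP && (List.range 24).any fun i => !(Nat.beq (papp x i) i))

theorem pp_of_data {G : Type*} [Group G] [Finite G] {φ : G →* M24} (hφ : Function.Injective φ) {F : List ℕ}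
    (hmem : ∀ c : ℕ, ok c = true → (∀ b ∈ F, papp c b = b) → ∃ x : G, φ x = el c) (D : List Rec) {x p : ℕ}
    (hp : p.Prime) (hp6 : Nat.Coprime p 6) (hx : chkX F x p = true)
    {W : List (ℕ × ℕ × ℕ × ℕ)} (hW : chkAllT F x D W = true)
    (hcov : ∀ g : G, g = 1 ∨ ∃ r ∈ D, ∃ x : G, φ x = el r.c ∧ IsConj x g) : PP G := by
  unfold chkX at hx
  rw [Bool.and_eq_true, Bool.and_eq_true] at hx
  obtain ⟨x1, x2, x3⟩ := hx
  obtain ⟨xo, xF⟩ := inG_iff x1
  obtain ⟨X, hX⟩ := hmem _ xo xF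
  have hXp : X ^ p = 1 := by
    apply hφ
    rw [map_pow, hX, ← (el_ppw xo p).2, Nat.eq_of_beq_eq_true x2, el_idP, map_one]
  have hX1 : X ≠ 1 := by
    intro h
    rw [List.any_eq_true] at x3
    obtain ⟨i, hi, h1⟩ := x3
    rw [Bool.not_eq_true'] at h1
    have hi' : i < 24 := List.mem_range.1 hi
    have h2 : papp x i = i := by
      rw [← im_el xo hi', ← hX, h, map_one, im_one hi']
    rw [h2, Nat.beq_refl] at h1
    exact Bool.noConfusion h1
  have : Fact p.Prime := ⟨hp⟩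
  have ho : orderOf X = p := orderOf_eq_prime hXp hX1
  refine ⟨X, by rw [ho]; exact hp, by rw [ho]; exact hp6, fun g hg => ?_⟩
  rcases hcov g with h | ⟨r, hr, y, hy, hyg⟩
  · exact absurd h hg
  obtain ⟨w, hw⟩ := exists_chkT hW r hr
  unfold chkT at hw
  rw [Bool.and_eq_true, Bool.and_eq_true, Bool.and_eq_true, Bool.and_eq_true, Bool.and_eq_true, Bool.and_eq_true] at hw
  obtain ⟨h1, h2, h3, h4, h5, h6, h7⟩ := hw
  have k2 := inG_iff h2
  have k3 := inG_iff h3
  have k4 := inG_iff h4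
  have k5 := inG_iff h5
  obtain ⟨a, ha⟩ := hmem _ k2.1 k2.2
  obtain ⟨u, hu⟩ := hmem _ k3.1 k3.2
  obtain ⟨b, hb⟩ := hmem _ k4.1 k4.2
  obtain ⟨v, hv⟩ := hmem _ k5.1 k5.2
  have e1 : a * b = y := by
    apply hφ
    rw [map_mul, ha, hb, hy, ← el_pcomp k2.1 k4.1, Nat.eq_of_beq_eq_true h1]
  have e2 : u * X = a * u := by
    apply hφ
    rw [map_mul, map_mul, ha, hu, hX, ← el_pcomp k3.1 xo, ← el_pcomp k2.1 k3.1, Nat.eq_of_beq_eq_true h6]
  have e3 : v * X = b * v := by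
    apply hφ
    rw [map_mul, map_mul, hb, hv, hX, ← el_pcomp k5.1 xo, ← el_pcomp k4.1 k5.1, Nat.eq_of_beq_eq_true h7]
  obtain ⟨t, ht⟩ := isConj_iff.1 hyg
  refine ⟨t * u, t * v, ?_⟩
  have e4 : t * u * X * (t * u)⁻¹ = t * a * t⁻¹ := by
    rw [mul_assoc t u X, e2]
    group
  have e5 : t * v * X * (t * v)⁻¹ = t * b * t⁻¹ := by
    rw [mul_assoc t v X, e3]
    group
  rw [e4, e5, ← ht, ← e1]
  group

end Cfsg.Agent.H142.TC
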