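import Cfsg.Agent.H142.TC.Eng
import Cfsg.Agent.H334.Ore.M22Data

/-!
# `M22`: one class of elements of order `11` covers (S4173): the data and the checks (helper142)
-/

set_option autoImplicit false
set_option Elab.async false

namespace Cfsg.Agent.H142.TC.M22D

open Cfsg.Agent.H334.Ore Cfsg.Agent.H142.TC

/-- An element of order `11`. -/
def x : ℕ := 973927421301535459106453854890594400

/-- The factorisations. -/
def W : List (ℕ × ℕ × ℕ × ℕ) := [
  (970443835493998937720215056139371072,
    979243716112499030615937500489296544,
    965300786430593251158028697237277824,
    960031478633392661889027120200865920),
  (973945242432632864516407721683573408,
    977784163419562122184544318962404864,
    978079201176288350903552041536858272,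
    967599726353337049348046073266482880),
  (977801437753808484516779088679158208,
    971691637333636798563656563736349312,
    958033494088364492259299675078271456,
    983553869490589598875562552507675232),
  (957055345611835034226115798878308512,
    974221337448951268314624073311540448,
    964639817595013587700776186941135168,
    964080695906265030136254771126357312),
  (970200591706842933185633902508840640,
    977583758646474762545535655872607680,
    959791790847325955296846571061493056,
    969114664305438211640660488285859360),
  (971735435125275797628460275779452096,
    972973869480888862919179931693549664,
    969874984943143539955088141788993856,
    977720413405463044211255178332417632),
  (977801437753808484516779088679158208,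
    971691637333636798563656563736349312,
    959948250149284075340674414762174816,
    983059412620284070888358685197179232),
  (982133065962474685442430808033077408,
    984404274527287978397011234735131200,
    975153775492962515594513594253351360,
    963962377929183835491342971138558400),
  (957055345611835034226115798878308512,
    974221337448951268314624073311540448,
    977794867081055432335703169915082016,
    971795784765073802723077425039726016),
  (972387182197891775563436711080232512,
    964051426016649189995168489743297120,
    979010936439457993879752886049092256,
    976454822829189887385160209058421280),
  (973699349039831577986049794499905152,
    960719996361252380099113001877354080,
    962183630901139924579560524256520896,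
    980642289860698695373897074806857856)]

theorem hx : chkX M22Data.F x 11 = true := by decide +kernel

theorem hW : chkAllT M22Data.F x M22Data.D W = true := by decide +kernel

end Cfsg.Agent.H142.TC.M22D
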