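import Cfsg.Agent.H142.TC.Eng
import Cfsg.Agent.H334.Ore.M23Data

/-!
# `M23`: one class of elements of order `23` covers (S4173): the data and the checks (helper142)
-/

set_option autoImplicit false
set_option Elab.async false

namespace Cfsg.Agent.H142.TC.M23D

open Cfsg.Agent.H334.Ore Cfsg.Agent.H142.TC

/-- An element of order `23`. -/
def x : ℕ := 982252470930009687161553335856700853

/-- The factorisations. -/
def W : List (ℕ × ℕ × ℕ × ℕ) := [
  (971795136519801341225412378585378055,
    957097203084704048488758034100042219,
    982116278993836474882111906419783794,
    977700185771969987811862956687479075),
  (980073298272701634754374989112743030,
    974104841124417816826010333369877194,
    967405897251054084979650605874316874,
    968367885365175070491762365193266796),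
  (980183466397667833898676205889126471,
    979450752696008810458046269963218062,
    963263817996262350803433052792605972,
    981356274638305577358420510924877190),
  (966525918403400010467307102984058343,
    955838029643141209444387585501149490,
    981474900015682947676067382027131218,
    980620965236145667004021649432613382),
  (964818264802211329116607261142559094,
    968465270892390795375041008635150631,
    971253970379031585127655144595932483,
    977536848383911069365966691659863078),
  (969991411952939085145950880791581296,
    981430947806408369581184921873626478,
    968933979215014944925437021835023785,
    959826532684141358509896760924838913),
  (973083425329803425389405410506838486,
    958674004577441241024198772637815303,
    973663701403101508900406038661088836,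
    963617613689402737144510517428737265),
  (970353908976160930893116009795865776,
    956809582068962024564111867404966505,
    971415441275953981078693892931144834,
    965303853702139705475286779912891054),
  (980876522294464045561507331752073384,
    965779194784941025269880572272448195,
    963992962038778285822250894377531414,
    965023839506651230354875566346246158),
  (957215732650901540762079330738420356,
    982984051989021459211917698013826636,
    955687459343800535607089917110455945,
    977639483305126034470346826023799270),
  (971084313422188703433544109370483370,
    971857346439615729154782155729192967,
    966222999345757236734937555669629007,
    972933287209428122579237172861521091),
  (975305263546109452478715583107073642,
    963964762048890712333613757349963169,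
    964084093349026146247910066976633253,
    972323675570667427862439061056225543),
  (958434181486923203588818644689823924,
    968471139300234330927085899668001206,
    959367288906960369894017804060447137,
    984512683899546726806680845356645417),
  (967893783091709339253574738487488646,
    984073992658986521726097518534111730,
    981628512465984087513997048306619683,
    970445111919203502578655289672206375),
  (960680492426920703645849746726524547,
    955589585284741886983717759495652706,
    957098038833554728051351313586928017,
    967879405562435116146148755954313647),
  (974465022506714049669882478699151951,
    955483055350878161159376721324677544,
    965058743890591053847265563416466954,
    976204522573278227898672189989824625)]

theorem hx : chkX M23Data.F x 23 = true := by decide +kernel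

theorem hW : chkAllT M23Data.F x M23Data.D W = true := by decide +kernel

end Cfsg.Agent.H142.TC.M23D
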